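import Groth.Agent.UnramB.EtaleCoord
import Mathlib.RingTheory.Nakayama
import Mathlib.RingTheory.Smooth.Locus
import Mathlib.RingTheory.Etale.Locus
import Mathlib.RingTheory.Ideal.Cotangent
import Mathlib.RingTheory.Etale.Kaehler
import Mathlib.RingTheory.Localization.AtPrime.Basic
import Mathlib.RingTheory.Localization.BaseChange
import Mathlib.RingTheory.Jacobson.Ideal
import Mathlib.Tactic

/-!
# Etaleness along a section, from the conormal modules
-/

set_option autoImplicit false
universe u v w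
open scoped TensorProduct
open KaehlerDifferential

namespace K978.EtaleSection

section Abstract

variable {R : Type u} [CommRing R] (I P : Ideal R) [P.IsPrime] (hIP : I ≤ P)
    {M : Type v} {N : Type w} [AddCommGroup M] [AddCommGroup N] [Module R M] [Module R N]
    [Module.Finite R M] [Module.Finite R N]
    (ψ : M →ₗ[R] N)
    (L : Type u) [CommRing L] [Algebra R L] [IsLocalization.AtPrime L P]

omit [P.IsPrime] [Module.Finite R M] [IsLocalization.AtPrime L P] in
theorem one_tmul_mem {x : M} (hx : x ∈ I • (⊤ : Submodule R M)) (l : L) :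
    l ⊗ₜ[R] x ∈ (I.map (algebraMap R L)) • (⊤ : Submodule L (L ⊗[R] M)) := by
  induction hx using Submodule.smul_induction_on' with
  | smul r hr n _ =>
    rw [← TensorProduct.smul_tmul, Algebra.smul_def, ← smul_eq_mul, ← TensorProduct.smul_tmul']
    exact Submodule.smul_mem_smul (Ideal.mem_map_of_mem _ hr) trivial
  | add x _ y _ hx hy =>
    rw [TensorProduct.tmul_add]
    exact Submodule.add_mem _ hx hy

include hIP in
/-- A map of finite modules which is bijective modulo `I` is bijective at the primes containing `I`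
as soon as the target is projective there. -/
theorem bijective_of_mod
    (hS : ∀ n : N, ∃ m : M, n - ψ m ∈ I • (⊤ : Submodule R N))
    (hI : ∀ m : M, ψ m ∈ I • (⊤ : Submodule R N) → m ∈ I • (⊤ : Submodule R M))
    [Module.Projective L (L ⊗[R] N)] : Function.Bijective (ψ.baseChange L) := by
  have hloc : IsLocalRing L := IsLocalization.AtPrime.isLocalRing L P
  have hjac : I.map (algebraMap R L) ≤ Ideal.jacobson ⊥ := by
    rw [IsLocalRing.jacobson_eq_maximalIdeal ⊥ bot_ne_top, Ideal.map_le_iff_le_comap]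
    intro x hx
    rw [Ideal.mem_comap]
    exact (IsLocalization.AtPrime.to_map_mem_maximal_iff L P x hloc).mpr (hIP hx)
  have hsurj : Function.Surjective (ψ.baseChange L) := by
    rw [← LinearMap.range_eq_top, eq_top_iff]
    refine Submodule.le_of_le_smul_of_le_jacobson_bot Module.Finite.fg_top hjac ?_
    intro x _
    induction x using TensorProduct.induction_on with
    | zero => exact Submodule.zero_mem _
    | add x y hx hy => exact Submodule.add_mem _ (hx trivial) (hy trivial)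
    | tmul l n =>
      obtain ⟨m, hm⟩ := hS n
      have h1 : l ⊗ₜ[R] n = ψ.baseChange L (l ⊗ₜ m) + l ⊗ₜ[R] (n - ψ m) := by
        rw [LinearMap.baseChange_tmul, ← TensorProduct.tmul_add, add_sub_cancel]
      rw [h1]
      exact Submodule.add_mem_sup ⟨_, rfl⟩ (one_tmul_mem I L hm l)
  obtain ⟨s, hs⟩ := Module.projective_lifting_property (ψ.baseChange L) LinearMap.id hsurj
  have hs' : ∀ x, ψ.baseChange L (s x) = x := fun x => LinearMap.congr_fun hs x
  refine ⟨?_, hsurj⟩
  rw [← LinearMap.ker_eq_bot]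
  set p : L ⊗[R] M →ₗ[L] L ⊗[R] M := LinearMap.id - s ∘ₗ (ψ.baseChange L) with hp
  have hrange : LinearMap.range p = LinearMap.ker (ψ.baseChange L) := by
    apply le_antisymm
    · rintro _ ⟨x, rfl⟩
      rw [LinearMap.mem_ker]
      simp only [hp, LinearMap.sub_apply, LinearMap.id_apply, LinearMap.comp_apply, map_sub, hs', sub_self]
    · intro x hx
      rw [LinearMap.mem_ker] at hx
      refine ⟨x, ?_⟩
      simp only [hp, LinearMap.sub_apply, LinearMap.id_apply, LinearMap.comp_apply, hx, map_zero, sub_zero]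
  have hfg : (LinearMap.ker (ψ.baseChange L)).FG := by
    rw [← hrange, LinearMap.range_eq_map]
    exact Module.Finite.fg_top.map _
  refine Submodule.eq_bot_of_le_smul_of_le_jacobson_bot (I.map (algebraMap R L)) _ hfg ?_ hjac
  intro x hx
  -- x is in (I L) • ⊤
  have hxI : x ∈ (I.map (algebraMap R L)) • (⊤ : Submodule L (L ⊗[R] M)) := by
    obtain ⟨⟨m, t⟩, hmt⟩ := IsLocalizedModule.surj P.primeCompl (TensorProduct.mk R L M 1) x
    simp only [TensorProduct.mk_apply] at hmt
    have h1 : ψ.baseChange L (1 ⊗ₜ[R] m) = 0 := by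
      rw [← hmt]
      have h2 : ψ.baseChange L (t • x) = t • ψ.baseChange L x := by
        rw [Submonoid.smul_def, ← algebraMap_smul L (t : R) x, map_smul, algebraMap_smul]
        rfl
      rw [h2, LinearMap.mem_ker.mp hx, smul_zero]
    rw [LinearMap.baseChange_tmul] at h1
    have h3 : TensorProduct.mk R L N 1 (ψ m) = TensorProduct.mk R L N 1 0 := by
      rw [map_zero]; exact h1
    obtain ⟨u, hu⟩ := (IsLocalizedModule.eq_iff_exists P.primeCompl (TensorProduct.mk R L N 1)).mp h3
    rw [smul_zero] at hu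
    have h4 : ψ ((u : R) • m) = 0 := by
      rw [map_smul]; exact hu
    have h5 := hI _ (by rw [h4]; exact Submodule.zero_mem _)
    have h6 := one_tmul_mem I L h5 1
    have h7 : (1 : L) ⊗ₜ[R] ((u : R) • m) = (algebraMap R L (u * t)) • x := by
      rw [TensorProduct.tmul_smul, ← hmt, Submonoid.smul_def, map_mul, mul_smul, algebraMap_smul, algebraMap_smul]
    rw [h7] at h6
    have h8 : IsUnit (algebraMap R L (u * t)) := IsLocalization.map_units L (u * t)
    obtain ⟨v, hv⟩ := h8
    have h9 := Submodule.smul_mem _ (↑v⁻¹ : L) h6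
    rw [← hv, smul_smul, Units.inv_mul, one_smul] at h9
    exact h9
  -- apply p
  have hpx : p x = x := by
    simp only [hp, LinearMap.sub_apply, LinearMap.id_apply, LinearMap.comp_apply, LinearMap.mem_ker.mp hx, map_zero, sub_zero]
  rw [← hpx, ← hrange, LinearMap.range_eq_map, ← Submodule.map_smul'']
  exact Submodule.mem_map_of_mem hxI

end Abstract

section Section

variable {A B : Type u} [CommRing A] [CommRing B] [Algebra A B] (σ : B →ₐ[A] A)

theorem sub_mem (b : B) : b - algebraMap A B (σ b) ∈ RingHom.ker σ := by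
  rw [RingHom.mem_ker, map_sub, AlgHom.commutes, sub_eq_zero]
  rfl

/-- The derivation `b ↦ [b - σ b]` with values in the conormal module of the section. -/
noncomputable def der : Derivation A B (RingHom.ker σ).Cotangent where
  toFun b := (RingHom.ker σ).toCotangent ⟨b - algebraMap A B (σ b), sub_mem σ b⟩
  map_add' b b' := by
    rw [← map_add]
    congr 1
    apply Subtype.ext
    simp only [map_add, Submodule.coe_add]
    ring
  map_smul' a b := by
    rw [RingHom.id_apply, ← algebraMap_smul B a ((RingHom.ker σ).toCotangent _), ← map_smul]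
    congr 1
    apply Subtype.ext
    simp only [SetLike.val_smul, smul_eq_mul, map_mul, Algebra.smul_def, AlgHom.commutes]
    rw [mul_sub]
    rfl
  map_one_eq_zero' := by
    have : (⟨1 - algebraMap A B (σ 1), sub_mem σ 1⟩ : RingHom.ker σ) = 0 := by
      apply Subtype.ext
      simp
    show (RingHom.ker σ).toCotangent ⟨1 - algebraMap A B (σ 1), sub_mem σ 1⟩ = 0
    rw [this, map_zero]
  leibniz' b b' := by
    show (RingHom.ker σ).toCotangent ⟨b * b' - algebraMap A B (σ (b * b')), sub_mem σ _⟩ =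
      b • (RingHom.ker σ).toCotangent ⟨b' - algebraMap A B (σ b'), sub_mem σ _⟩ +
      b' • (RingHom.ker σ).toCotangent ⟨b - algebraMap A B (σ b), sub_mem σ _⟩
    rw [← map_smul, ← map_smul, ← map_add, Ideal.toCotangent_eq]
    simp only [Submodule.coe_add, SetLike.val_smul, smul_eq_mul, map_mul]
    have h : (b * b' - algebraMap A B (σ b) * algebraMap A B (σ b') -
        (b * (b' - algebraMap A B (σ b')) + b' * (b - algebraMap A B (σ b)))) =
        -((b - algebraMap A B (σ b)) * (b' - algebraMap A B (σ b'))) := by ring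
    rw [h, pow_two]
    exact neg_mem (Ideal.mul_mem_mul (sub_mem σ b) (sub_mem σ b'))

theorem der_mem (x : B) (hx : x ∈ RingHom.ker σ) : der σ x = (RingHom.ker σ).toCotangent ⟨x, hx⟩ := by
  show (RingHom.ker σ).toCotangent ⟨x - algebraMap A B (σ x), sub_mem σ _⟩ = _
  congr 1
  apply Subtype.ext
  have : σ x = 0 := hx
  simp [this]

/-- `D b = D (b - σ b)`. -/
theorem D_eq (b : B) : D A B b = D A B (b - algebraMap A B (σ b)) := by
  rw [map_sub, Derivation.map_algebraMap, sub_zero]

theorem D_mem_of_sq (x : B) (hx : x ∈ RingHom.ker σ ^ 2) : D A B x ∈ (RingHom.ker σ) • (⊤ : Submodule B Ω[B⁄A]) := by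
  rw [pow_two] at hx
  induction hx using Submodule.mul_induction_on' with
  | mem_mul_mem m hm n hn =>
    rw [Derivation.leibniz]
    exact Submodule.add_mem _ (Submodule.smul_mem_smul hm trivial) (Submodule.smul_mem_smul hn trivial)
  | add x _ y _ hx hy =>
    rw [map_add]; exact Submodule.add_mem _ hx hy

theorem toCotangent_eq_zero_of_D_mem (x : B) (hx : x ∈ RingHom.ker σ)
    (h : D A B x ∈ (RingHom.ker σ) • (⊤ : Submodule B Ω[B⁄A])) : (RingHom.ker σ).toCotangent ⟨x, hx⟩ = 0 := by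
  rw [← der_mem σ x hx, ← Derivation.liftKaehlerDifferential_comp_D]
  have h2 : ∀ ω ∈ (RingHom.ker σ) • (⊤ : Submodule B Ω[B⁄A]), (der σ).liftKaehlerDifferential ω = 0 := by
    intro ω hω
    induction hω using Submodule.smul_induction_on' with
    | smul r hr n _ =>
      rw [map_smul]
      obtain ⟨y, hy⟩ := (RingHom.ker σ).toCotangent_surjective ((der σ).liftKaehlerDifferential n)
      rw [← hy, ← map_smul, Ideal.toCotangent_eq_zero, pow_two]
      exact Ideal.mul_mem_mul hr y.2
    | add x _ y _ hx hy => rw [map_add, hx, hy, add_zero]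
  exact h2 _ h

end Section

section Main

variable (A B₁ B₂ : Type u)
    [CommRing A] [CommRing B₁] [CommRing B₂] [Algebra A B₁] [Algebra A B₂] [Algebra B₂ B₁]
    [IsScalarTower A B₂ B₁]
    (σ₁ : B₁ →ₐ[A] A) (σ₂ : B₂ →ₐ[A] A) (hσ : σ₁.comp (IsScalarTower.toAlgHom A B₂ B₁) = σ₂)
    (hle : RingHom.ker σ₂ ≤ (RingHom.ker σ₁).comap (IsScalarTower.toAlgHom A B₂ B₁))

include hσ in
theorem apply_eq (b : B₂) : σ₁ (algebraMap B₂ B₁ b) = σ₂ b := by
  rw [← hσ]; rfl

theorem hS_of
    (hsurj : Function.Surjective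
      (Ideal.mapCotangent (RingHom.ker σ₂) (RingHom.ker σ₁) (IsScalarTower.toAlgHom A B₂ B₁) hle))
    (n : Ω[B₁⁄A]) : ∃ m : B₁ ⊗[B₂] Ω[B₂⁄A], n - mapBaseChange A B₂ B₁ m ∈
      (RingHom.ker σ₁) • (⊤ : Submodule B₁ Ω[B₁⁄A]) := by
  have hn : n ∈ Submodule.span B₁ (Set.range (D A B₁)) := by rw [span_range_derivation]; trivial
  induction hn using Submodule.span_induction with
  | mem x hx =>
    obtain ⟨b, rfl⟩ := hx
    rw [D_eq σ₁ b]
    obtain ⟨y, hy⟩ := hsurj ((RingHom.ker σ₁).toCotangent ⟨b - algebraMap A B₁ (σ₁ b), sub_mem σ₁ b⟩)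
    obtain ⟨y, rfl⟩ := (RingHom.ker σ₂).toCotangent_surjective y
    rw [Ideal.mapCotangent_toCotangent, Ideal.toCotangent_eq] at hy
    simp only at hy
    refine ⟨1 ⊗ₜ D A B₂ y.1, ?_⟩
    rw [mapBaseChange_tmul, one_smul, map_D]
    have h1 := D_mem_of_sq σ₁ _ hy
    rw [map_sub] at h1
    have h2 := neg_mem h1
    rw [neg_sub] at h2
    exact h2
  | zero => exact ⟨0, by rw [map_zero, sub_zero]; exact Submodule.zero_mem _⟩
  | add x y _ _ hx hy =>
    obtain ⟨m, hm⟩ := hx
    obtain ⟨m', hm'⟩ := hy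
    refine ⟨m + m', ?_⟩
    rw [map_add, add_sub_add_comm]
    exact Submodule.add_mem _ hm hm'
  | smul a x _ hx =>
    obtain ⟨m, hm⟩ := hx
    refine ⟨a • m, ?_⟩
    rw [map_smul, ← smul_sub]
    exact Submodule.smul_mem _ _ hm

/-- every element of `B₁ ⊗ Ω[B₂/A]` is congruent to some `1 ⊗ D y`, `y ∈ ker σ₂`, modulo `ker σ₁`. -/
theorem exists_D (m : B₁ ⊗[B₂] Ω[B₂⁄A]) : ∃ y ∈ RingHom.ker σ₂, m - 1 ⊗ₜ D A B₂ y ∈
    (RingHom.ker σ₁) • (⊤ : Submodule B₁ (B₁ ⊗[B₂] Ω[B₂⁄A])) := by
  induction m using TensorProduct.induction_on with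
  | zero => exact ⟨0, Ideal.zero_mem _, by simp⟩
  | add x y hx hy =>
    obtain ⟨y1, h1, h1'⟩ := hx
    obtain ⟨y2, h2, h2'⟩ := hy
    refine ⟨y1 + y2, Ideal.add_mem _ h1 h2, ?_⟩
    rw [map_add, TensorProduct.tmul_add, add_sub_add_comm]
    exact Submodule.add_mem _ h1' h2'
  | tmul c ω =>
    have hω : ω ∈ Submodule.span B₂ (Set.range (D A B₂)) := by rw [span_range_derivation]; trivial
    induction hω using Submodule.span_induction generalizing c with
    | mem x hx =>
      obtain ⟨b, rfl⟩ := hx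
      refine ⟨algebraMap A B₂ (σ₁ c) * (b - algebraMap A B₂ (σ₂ b)), Ideal.mul_mem_left _ _ (sub_mem σ₂ b), ?_⟩
      rw [Derivation.leibniz, Derivation.map_algebraMap, smul_zero, add_zero, ← D_eq σ₂ b,
        ← TensorProduct.smul_tmul, ← TensorProduct.sub_tmul]
      have h1 : c - algebraMap A B₂ (σ₁ c) • (1 : B₁) = c - algebraMap A B₁ (σ₁ c) := by
        rw [Algebra.smul_def, mul_one, ← IsScalarTower.algebraMap_apply A B₂ B₁]
      rw [h1]
      have h2 : (c - algebraMap A B₁ (σ₁ c)) ⊗ₜ[B₂] D A B₂ b =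
          (c - algebraMap A B₁ (σ₁ c)) • ((1 : B₁) ⊗ₜ[B₂] D A B₂ b) := by
        rw [TensorProduct.smul_tmul', smul_eq_mul, mul_one]
      rw [h2]
      exact Submodule.smul_mem_smul (sub_mem σ₁ c) trivial
    | zero => exact ⟨0, Ideal.zero_mem _, by simp⟩
    | add x y _ _ hx hy =>
      obtain ⟨y1, h1, h1'⟩ := hx c
      obtain ⟨y2, h2, h2'⟩ := hy c
      refine ⟨y1 + y2, Ideal.add_mem _ h1 h2, ?_⟩
      rw [map_add, TensorProduct.tmul_add, TensorProduct.tmul_add, add_sub_add_comm]
      exact Submodule.add_mem _ h1' h2'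
    | smul a x _ hx =>
      obtain ⟨y1, h1, h1'⟩ := hx (a • c)
      refine ⟨y1, h1, ?_⟩
      rw [← TensorProduct.smul_tmul]
      exact h1'

theorem hI_of
    (hinj : Function.Injective
      (Ideal.mapCotangent (RingHom.ker σ₂) (RingHom.ker σ₁) (IsScalarTower.toAlgHom A B₂ B₁) hle))
    (m : B₁ ⊗[B₂] Ω[B₂⁄A]) (hm : mapBaseChange A B₂ B₁ m ∈ (RingHom.ker σ₁) • (⊤ : Submodule B₁ Ω[B₁⁄A])) :
    m ∈ (RingHom.ker σ₁) • (⊤ : Submodule B₁ (B₁ ⊗[B₂] Ω[B₂⁄A])) := by
  obtain ⟨y, hy, hmy⟩ := exists_D A B₁ B₂ σ₁ σ₂ m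
  have h1 : mapBaseChange A B₂ B₁ (m - 1 ⊗ₜ D A B₂ y) ∈ (RingHom.ker σ₁) • (⊤ : Submodule B₁ Ω[B₁⁄A]) := by
    have h2 := Submodule.mem_map_of_mem (f := mapBaseChange A B₂ B₁) hmy
    rw [Submodule.map_smul''] at h2
    exact Submodule.smul_mono le_rfl le_top h2
  rw [map_sub, mapBaseChange_tmul, one_smul, map_D] at h1
  have h3 : D A B₁ (algebraMap B₂ B₁ y) ∈ (RingHom.ker σ₁) • (⊤ : Submodule B₁ Ω[B₁⁄A]) := by
    have := Submodule.sub_mem _ hm h1
    rwa [sub_sub_cancel] at this
  have hy1 : algebraMap B₂ B₁ y ∈ RingHom.ker σ₁ := hle hy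
  have h4 := toCotangent_eq_zero_of_D_mem σ₁ _ hy1 h3
  have h5 : (Ideal.mapCotangent (RingHom.ker σ₂) (RingHom.ker σ₁) (IsScalarTower.toAlgHom A B₂ B₁) hle)
      ((RingHom.ker σ₂).toCotangent ⟨y, hy⟩) = 0 := by
    rw [Ideal.mapCotangent_toCotangent]
    exact h4
  have h6 := hinj (h5.trans (map_zero _).symm)
  rw [Ideal.toCotangent_eq_zero] at h6
  simp only at h6
  have h7 := D_mem_of_sq σ₂ y h6
  have h8 : (1 : B₁) ⊗ₜ[B₂] D A B₂ y ∈ (RingHom.ker σ₁) • (⊤ : Submodule B₁ (B₁ ⊗[B₂] Ω[B₂⁄A])) := by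
    have h9 := one_tmul_mem (RingHom.ker σ₂) B₁ h7 1
    refine Submodule.smul_mono_left ?_ h9
    rw [Ideal.map_le_iff_le_comap]
    exact hle
  have := Submodule.add_mem _ hmy h8
  rwa [sub_add_cancel] at this

/-- Etaleness along a section. -/
theorem isEtaleAt [Algebra.FiniteType A B₁] [Algebra.FiniteType A B₂]
    (hcot : Function.Bijective
      (Ideal.mapCotangent (RingHom.ker σ₂) (RingHom.ker σ₁) (IsScalarTower.toAlgHom A B₂ B₁) hle))
    (P : Ideal B₁) [P.IsPrime] (hP : RingHom.ker σ₁ ≤ P) [Algebra.IsSmoothAt A P] : Algebra.IsEtaleAt B₂ P := by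
  let L := Localization.AtPrime P
  have : Algebra.FormallySmooth A L := inferInstanceAs (Algebra.FormallySmooth A (Localization.AtPrime P))
  have : Algebra.FormallyEtale B₁ L := Algebra.FormallyEtale.of_isLocalization P.primeCompl
  let e₁ := tensorKaehlerEquivOfFormallyEtale A B₁ L
  have : Module.Projective L Ω[L⁄A] := inferInstance
  have : Module.Projective L (L ⊗[B₁] Ω[B₁⁄A]) := Module.Projective.of_equiv e₁.symm
  have hb := bijective_of_mod (RingHom.ker σ₁) P hP (mapBaseChange A B₂ B₁) L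
    (hS_of A B₁ B₂ σ₁ σ₂ hle hcot.2) (hI_of A B₁ B₂ σ₁ σ₂ hle hcot.1)
  let e₂ := (TensorProduct.AlgebraTensorModule.cancelBaseChange B₂ B₁ L L Ω[B₂⁄A]).symm
  have hfac : mapBaseChange A B₂ L = e₁.toLinearMap ∘ₗ ((mapBaseChange A B₂ B₁).baseChange L) ∘ₗ e₂.toLinearMap := by
    apply TensorProduct.AlgebraTensorModule.ext
    intro l ω
    rw [mapBaseChange_tmul]
    simp only [LinearMap.comp_apply, LinearEquiv.coe_coe, e₂,
      TensorProduct.AlgebraTensorModule.cancelBaseChange_symm_tmul, LinearMap.baseChange_tmul, mapBaseChange_tmul,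
      one_smul]
    have h1 : e₁ (l ⊗ₜ[B₁] (KaehlerDifferential.map A A B₂ B₁ ω)) = mapBaseChange A B₁ L (l ⊗ₜ[B₁] (KaehlerDifferential.map A A B₂ B₁ ω)) := rfl
    rw [h1, mapBaseChange_tmul]
    clear h1
    congr 1
    have hω : ω ∈ Submodule.span B₂ (Set.range (D A B₂)) := by rw [span_range_derivation]; trivial
    induction hω using Submodule.span_induction with
    | mem x hx =>
      obtain ⟨b, rfl⟩ := hx
      rw [map_D, map_D, map_D, ← IsScalarTower.algebraMap_apply]
    | zero => simp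
    | add x y _ _ hx hy => rw [map_add, map_add, map_add, hx, hy]
    | smul a x _ hx =>
      rw [map_smul, map_smul, hx, ← algebraMap_smul B₁ a (KaehlerDifferential.map A A B₂ B₁ x), map_smul,
        algebraMap_smul]
  have hbij : Function.Bijective (mapBaseChange A B₂ L) := by
    rw [hfac]
    exact e₁.bijective.comp (hb.comp e₂.bijective)
  exact Groth.Agent.UnramB.EtaleCoord.formallyEtale_of_bijective_mapBaseChange A B₂ L hbij

end Main

end K978.EtaleSection
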