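import Mathlib.RingTheory.GradedAlgebra.Homogeneous.Ideal
import Mathlib.RingTheory.Ideal.Cotangent
import Mathlib.Algebra.Module.Projective
import Mathlib.LinearAlgebra.Basis.Basic
import Mathlib.Tactic

/-!
# Graded lifts of a basis of the conormal module of the zero section generate the algebra
-/

set_option autoImplicit false
universe u v w
open DirectSum

namespace K978.GradedRetract

variable {A B : Type u} [CommRing A] [CommRing B] [Algebra A B] (𝒜 : ℕ → Submodule A B) [GradedAlgebra 𝒜]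

/-- the graded part of a linear endomorphism -/
noncomputable def gr (c : B →ₗ[A] B) : B →ₗ[A] B :=
  (DirectSum.toModule A ℕ B (fun n => (GradedAlgebra.proj 𝒜 n) ∘ₗ c ∘ₗ (𝒜 n).subtype)) ∘ₗ
    (DirectSum.decomposeLinearEquiv 𝒜).toLinearMap

theorem gr_of_mem (c : B →ₗ[A] B) {n : ℕ} {x : B} (hx : x ∈ 𝒜 n) : gr 𝒜 c x = GradedAlgebra.proj 𝒜 n (c x) := by
  simp only [gr, LinearMap.comp_apply, LinearEquiv.coe_coe]
  have : DirectSum.decomposeLinearEquiv 𝒜 x = DirectSum.lof A ℕ (fun i => 𝒜 i) n ⟨x, hx⟩ :=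
    DirectSum.decomposeLinearEquiv_apply_coe 𝒜 n ⟨x, hx⟩
  rw [this, DirectSum.toModule_lof]
  rfl

theorem proj_of_mem {n : ℕ} {x : B} (hx : x ∈ 𝒜 n) : GradedAlgebra.proj 𝒜 n x = x := by
  rw [GradedAlgebra.proj_apply, DirectSum.decompose_of_mem_same 𝒜 hx]

theorem proj_of_mem_ne {n m : ℕ} {x : B} (hx : x ∈ 𝒜 n) (h : n ≠ m) : GradedAlgebra.proj 𝒜 m x = 0 := by
  rw [GradedAlgebra.proj_apply, DirectSum.decompose_of_mem_ne 𝒜 hx h]

theorem proj_mem (n : ℕ) (x : B) : GradedAlgebra.proj 𝒜 n x ∈ 𝒜 n := by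
  rw [GradedAlgebra.proj_apply]
  exact Subtype.mem _

theorem mem_of_proj {p : Submodule A B} {x : B} (h : ∀ n, GradedAlgebra.proj 𝒜 n x ∈ p) : x ∈ p := by
  classical
  rw [← DirectSum.sum_support_decompose 𝒜 x]
  exact Submodule.sum_mem _ fun n _ => h n

variable (I : Ideal B) (hI : I.IsHomogeneous 𝒜)

include hI in
theorem proj_mem_of_mem {x : B} (hx : x ∈ I) (n : ℕ) : GradedAlgebra.proj 𝒜 n x ∈ I := hI n hx

include hI in
/-- A graded retraction onto `I ^ 2`. -/
theorem exists_gr (c : B →ₗ[A] B) (hc1 : ∀ x, c x ∈ I ^ 2) (hc2 : ∀ x ∈ I ^ 2, c x = x) :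
    (∀ x, gr 𝒜 c x ∈ I ^ 2) ∧ (∀ x ∈ I ^ 2, gr 𝒜 c x = x) ∧ ∀ n, ∀ x ∈ 𝒜 n, gr 𝒜 c x ∈ 𝒜 n := by
  classical
  have hI2 : (I ^ 2).IsHomogeneous 𝒜 := by rw [pow_two]; exact hI.mul hI
  have hsum : ∀ x, gr 𝒜 c x = ∑ n ∈ (decompose 𝒜 x).support, GradedAlgebra.proj 𝒜 n (c (decompose 𝒜 x n : B)) := by
    intro x
    conv_lhs => rw [← DirectSum.sum_support_decompose 𝒜 x]
    rw [map_sum]
    exact Finset.sum_congr rfl fun n _ => gr_of_mem 𝒜 c (Subtype.mem _)
  refine ⟨fun x => ?_, fun x hx => ?_, fun n x hx => ?_⟩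
  · rw [hsum]
    exact Ideal.sum_mem _ fun n _ => hI2 n (hc1 _)
  · rw [hsum]
    conv_rhs => rw [← DirectSum.sum_support_decompose 𝒜 x]
    refine Finset.sum_congr rfl fun n _ => ?_
    rw [hc2 _ (hI2 n hx), proj_of_mem 𝒜 (Subtype.mem _)]
  · rw [gr_of_mem 𝒜 c hx]
    exact proj_mem 𝒜 n _

theorem proj_sq_mem (h0 : ∀ x ∈ I, GradedAlgebra.proj 𝒜 0 x = 0) (S : Subalgebra A B) (n : ℕ)
    (hS : ∀ m < n, ∀ x ∈ 𝒜 m, x ∈ S) (y : B) (hy : y ∈ I ^ 2) : GradedAlgebra.proj 𝒜 n y ∈ S := by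
  classical
  rw [pow_two] at hy
  induction hy using Submodule.mul_induction_on' with
  | mem_mul_mem u hu v hv =>
    have h1 : u * v = ∑ a ∈ (decompose 𝒜 u).support, ∑ b ∈ (decompose 𝒜 v).support,
        (decompose 𝒜 u a : B) * (decompose 𝒜 v b : B) := by
      conv_lhs => rw [← DirectSum.sum_support_decompose 𝒜 u, ← DirectSum.sum_support_decompose 𝒜 v]
      rw [Finset.sum_mul_sum]
    rw [h1, map_sum]
    refine Subalgebra.sum_mem _ fun a _ => ?_
    rw [map_sum]
    refine Subalgebra.sum_mem _ fun b _ => ?_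
    have h2 : (decompose 𝒜 u a : B) * (decompose 𝒜 v b : B) ∈ 𝒜 (a + b) :=
      SetLike.mul_mem_graded (Subtype.mem _) (Subtype.mem _)
    by_cases hab : a + b = n
    · rw [← hab, proj_of_mem 𝒜 h2]
      by_cases ha : a = 0
      · have : (decompose 𝒜 u a : B) = 0 := by rw [ha]; exact h0 u hu
        rw [this, zero_mul]; exact Subalgebra.zero_mem _
      by_cases hb : b = 0
      · have : (decompose 𝒜 v b : B) = 0 := by rw [hb]; exact h0 v hv
        rw [this, mul_zero]; exact Subalgebra.zero_mem _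
      exact Subalgebra.mul_mem _ (hS a (by omega) _ (Subtype.mem _)) (hS b (by omega) _ (Subtype.mem _))
    · rw [proj_of_mem_ne 𝒜 h2 hab]
      exact Subalgebra.zero_mem _
  | add x _ y _ hx hy =>
    rw [map_add]
    exact Subalgebra.add_mem _ hx hy

include hI in
/-- Graded lifts of a basis of `I / I ^ 2` generate the algebra. -/
theorem exists_generators (h0 : ∀ x ∈ I, GradedAlgebra.proj 𝒜 0 x = 0)
    (h0' : ∀ x, GradedAlgebra.proj 𝒜 0 x = 0 → x ∈ I)
    (hA : ∀ x ∈ 𝒜 0, x ∈ Set.range (algebraMap A B)) {ι : Type w} (bas : Module.Basis ι A I.Cotangent) :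
    ∃ e : ι → I, (∀ i, I.toCotangent (e i) = bas i) ∧ Algebra.adjoin A (Set.range fun i => (e i : B)) = ⊤ := by
  classical
  have : Module.Projective A I.Cotangent := Module.Projective.of_basis bas
  -- a linear section of the projection
  obtain ⟨s, hs⟩ := Module.projective_lifting_property (I.toCotangent.restrictScalars A) LinearMap.id
    I.toCotangent_surjective
  have hs' : ∀ e, I.toCotangent (s e) = e := fun e => LinearMap.congr_fun hs e
  -- projection of B onto I
  let pI : B →ₗ[A] I :=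
    { toFun := fun x => ⟨x - GradedAlgebra.proj 𝒜 0 x, h0' _ (by
        rw [map_sub, proj_of_mem 𝒜 (proj_mem 𝒜 0 x), sub_self])⟩
      map_add' := fun x y => by
        apply Subtype.ext
        simp only [map_add, Submodule.coe_add]
        abel
      map_smul' := fun a x => by
        apply Subtype.ext
        simp only [map_smul, RingHom.id_apply, ← smul_sub]
        rfl }
  have hpI : ∀ x : B, ∀ hx : x ∈ I, pI x = ⟨x, hx⟩ := by
    intro x hx
    apply Subtype.ext
    show x - GradedAlgebra.proj 𝒜 0 x = x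
    rw [h0 x hx, sub_zero]
  let c : B →ₗ[A] B := (I.subtype.restrictScalars A) ∘ₗ
    (LinearMap.id - s ∘ₗ (I.toCotangent.restrictScalars A)) ∘ₗ pI
  have hc : ∀ x, c x = (pI x : B) - (s (I.toCotangent (pI x)) : B) := fun x => rfl
  have hc1 : ∀ x, c x ∈ I ^ 2 := by
    intro x
    rw [hc, ← Ideal.toCotangent_eq, hs']
  have hc2 : ∀ x ∈ I ^ 2, c x = x := by
    intro x hx
    have hxI : x ∈ I := Ideal.pow_le_self (two_ne_zero) hx
    rw [hc, hpI x hxI, (Ideal.toCotangent_eq_zero I ⟨x, hxI⟩).mpr hx, map_zero]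
    simp
  obtain ⟨g1, g2, g3⟩ := exists_gr 𝒜 I hI c hc1 hc2
  set g := gr 𝒜 c
  have hgI : ∀ x, g x ∈ I := fun x => Ideal.pow_le_self (two_ne_zero) (g1 x)
  -- the generators
  have hex : ∀ i, ∃ e : I, I.toCotangent e = bas i ∧ g e = 0 := by
    intro i
    obtain ⟨x, hx⟩ := I.toCotangent_surjective (bas i)
    refine ⟨x - ⟨g x, hgI x⟩, ?_, ?_⟩
    · rw [map_sub, hx, (Ideal.toCotangent_eq_zero I ⟨g x, hgI x⟩).mpr (g1 x), sub_zero]
    · rw [Submodule.coe_sub, map_sub, g2 _ (g1 x), sub_self]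
  choose e he1 he2 using hex
  refine ⟨e, he1, ?_⟩
  set S := Algebra.adjoin A (Set.range fun i => (e i : B))
  have heS : ∀ i, (e i : B) ∈ S := fun i => Algebra.subset_adjoin ⟨i, rfl⟩
  have hker : ∀ z ∈ I, g z = 0 → z ∈ S := by
    intro z hz hgz
    have h1 := bas.linearCombination_repr (I.toCotangent ⟨z, hz⟩)
    set a := bas.repr (I.toCotangent ⟨z, hz⟩)
    have h2 : I.toCotangent (a.sum fun i r => r • e i) = I.toCotangent ⟨z, hz⟩ := by
      rw [← h1, Finsupp.linearCombination_apply, Finsupp.sum, Finsupp.sum, map_sum]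
      refine Finset.sum_congr rfl fun i _ => ?_
      rw [← he1]
      exact (I.toCotangent.restrictScalars A).map_smul (a i) (e i)
    have h3 : z - ((a.sum fun i r => r • e i : I) : B) ∈ I ^ 2 := by
      have := (Ideal.toCotangent_eq (I := I)).mp h2.symm
      exact this
    have h4 : ((a.sum fun i r => r • e i : I) : B) = ∑ i ∈ a.support, a i • (e i : B) := by
      rw [Finsupp.sum, Submodule.coe_sum]
      rfl
    have h5 : g (z - ((a.sum fun i r => r • e i : I) : B)) = 0 := by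
      rw [map_sub, hgz, h4, map_sum, zero_sub, neg_eq_zero]
      exact Finset.sum_eq_zero fun i _ => by rw [map_smul, he2, smul_zero]
    rw [g2 _ h3, sub_eq_zero] at h5
    rw [h5, h4]
    exact Subalgebra.sum_mem _ fun i _ => Subalgebra.smul_mem _ (heS i) _
  have hall : ∀ n, ∀ x ∈ 𝒜 n, x ∈ S := by
    intro n
    induction n using Nat.strong_induction_on with
    | _ n ih =>
    intro x hx
    by_cases hn : n = 0
    · subst hn
      obtain ⟨a, ha⟩ := hA x hx
      rw [← ha]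
      exact Subalgebra.algebraMap_mem _ _
    · have hxI : x ∈ I := h0' x (proj_of_mem_ne 𝒜 hx hn)
      have h1 : x - g x ∈ S := hker _ (I.sub_mem hxI (hgI x)) (by rw [map_sub, g2 _ (g1 x), sub_self])
      have h2 : g x ∈ S := by
        have := proj_sq_mem 𝒜 I h0 S n ih (g x) (g1 x)
        rwa [proj_of_mem 𝒜 (g3 n x hx)] at this
      have := Subalgebra.add_mem _ h1 h2
      rwa [sub_add_cancel] at this
  rw [eq_top_iff]
  intro x _
  exact mem_of_proj 𝒜 (p := Subalgebra.toSubmodule S) fun n => hall n _ (proj_mem 𝒜 n x)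

end K978.GradedRetract
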