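import Groth.Agent.BBDec.K978.EtaleSection
import Mathlib.RingTheory.MvPolynomial.Ideal
import Mathlib.RingTheory.Filtration
import Mathlib.RingTheory.Polynomial.Basic
import Mathlib.RingTheory.Localization.Submodule
import Mathlib.Tactic

/-!
# A surjection from a polynomial ring, etale along the zero section, is bijective
-/

set_option autoImplicit false
universe u v w
open scoped TensorProduct

namespace K978.Inj

section Augment

variable (A : Type u) [CommRing A] (ι : Type)

/-- the augmentation `A[X] → A` -/
noncomputable def aug : MvPolynomial ι A →ₐ[A] A := MvPolynomial.aeval (fun _ => 0)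

variable {A ι}

theorem aug_eq (p : MvPolynomial ι A) : aug A ι p = MvPolynomial.constantCoeff p := by
  simp only [aug]
  rw [MvPolynomial.aeval_def, MvPolynomial.eval₂_eq_eval_map]
  simp [MvPolynomial.constantCoeff_eq]

theorem ker_aug : RingHom.ker (aug A ι) = MvPolynomial.idealOfVars ι A := by
  ext p
  rw [RingHom.mem_ker, aug_eq, ← pow_one (MvPolynomial.idealOfVars ι A), MvPolynomial.mem_pow_idealOfVars_iff',
    MvPolynomial.constantCoeff_eq]
  constructor
  · intro h x hx
    have : x = 0 := by
      rw [Nat.lt_one_iff, Finsupp.degree_eq_zero_iff] at hx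
      exact hx
    rw [this, h]
  · intro h
    exact h 0 (by simp)

theorem eq_zero_of_forall_pow (x : MvPolynomial ι A) (h : ∀ n, x ∈ MvPolynomial.idealOfVars ι A ^ n) : x = 0 := by
  ext m
  rw [MvPolynomial.coeff_zero]
  exact (MvPolynomial.mem_pow_idealOfVars_iff' (m.degree + 1) x).mp (h _) m (Nat.lt_succ_self _)

theorem X_mem (i : ι) : MvPolynomial.X i ∈ RingHom.ker (aug A ι) := by
  rw [ker_aug]; exact Ideal.subset_span ⟨i, rfl⟩

theorem exists_lin [Fintype ι] (p : MvPolynomial ι A) : ∃ a : ι → A,
    p - MvPolynomial.C (aug A ι p) - ∑ i, a i • MvPolynomial.X i ∈ RingHom.ker (aug A ι) ^ 2 := by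
  classical
  induction p using MvPolynomial.induction_on with
  | C a =>
    refine ⟨0, ?_⟩
    have : aug A ι (MvPolynomial.C a) = a := by simp [aug]
    rw [this]
    simp
  | add p q hp hq =>
    obtain ⟨a, ha⟩ := hp
    obtain ⟨b, hb⟩ := hq
    refine ⟨a + b, ?_⟩
    have := Ideal.add_mem _ ha hb
    convert this using 1
    simp only [map_add, Pi.add_apply, add_smul, Finset.sum_add_distrib]
    ring
  | mul_X p j hp =>
    refine ⟨Pi.single j (aug A ι p), ?_⟩
    have h1 : aug A ι (p * MvPolynomial.X j) = 0 := by
      rw [map_mul]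
      simp [aug]
    rw [h1, map_zero, sub_zero, Finset.sum_eq_single j]
    · rw [Pi.single_eq_same, MvPolynomial.smul_eq_C_mul, ← sub_mul, pow_two]
      refine Ideal.mul_mem_mul ?_ (X_mem j)
      rw [RingHom.mem_ker, map_sub]
      have : aug A ι (MvPolynomial.C (aug A ι p)) = aug A ι p := by simp [aug]
      rw [this, sub_self]
    · intro i _ hi
      rw [Pi.single_eq_of_ne hi, zero_smul]
    · intro h; exact absurd (Finset.mem_univ _) h

end Augment

section Etale

/-- If `C → B` is surjective and étale at the prime `P` of `B` then every element of the kernel is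
killed by an element outside `P ∩ C`. -/
theorem exists_ann {C B : Type u} [CommRing C] [IsNoetherianRing C] [CommRing B] [Algebra C B]
    (hsurj : Function.Surjective (algebraMap C B)) (P : Ideal B) [P.IsPrime] [Algebra.IsEtaleAt C P]
    (x : C) (hx : algebraMap C B x = 0) : ∃ u, u ∉ P.comap (algebraMap C B) ∧ u * x = 0 := by
  set Q := P.comap (algebraMap C B) with hQ
  let CQ := Localization.AtPrime Q
  let BP := Localization.AtPrime P
  let f : CQ →+* BP := Localization.localRingHom Q P (algebraMap C B) rfl
  let _ : Algebra CQ BP := f.toAlgebra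
  have hf : ∀ c : C, f (algebraMap C CQ c) = algebraMap B BP (algebraMap C B c) := fun c =>
    Localization.localRingHom_to_map Q P (algebraMap C B) rfl c
  have _ : IsScalarTower C CQ BP := by
    refine IsScalarTower.of_algebraMap_eq fun c => ?_
    rw [IsScalarTower.algebraMap_apply C B BP]
    exact (hf c).symm
  have h1 : Algebra.FormallyEtale C BP := inferInstanceAs (Algebra.FormallyEtale C (Localization.AtPrime P))
  have h2 : Algebra.FormallyEtale CQ BP := Algebra.FormallyEtale.localization_base Q.primeCompl
  have h3 : Function.Surjective (algebraMap CQ BP) := by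
    intro y
    obtain ⟨b, s, rfl⟩ := IsLocalization.exists_mk'_eq P.primeCompl y
    obtain ⟨c, rfl⟩ := hsurj b
    obtain ⟨t, ht⟩ := hsurj s.1
    have htQ : t ∈ Q.primeCompl := by
      show t ∉ Q
      rw [hQ, Ideal.mem_comap, ht]
      exact s.2
    refine ⟨IsLocalization.mk' CQ c ⟨t, htQ⟩, ?_⟩
    rw [IsLocalization.eq_mk'_iff_mul_eq, ← ht]
    have h4 : algebraMap B BP (algebraMap C B t) = f (algebraMap C CQ t) := (hf t).symm
    have h5 : algebraMap CQ BP = f := rfl
    rw [h4, h5, ← map_mul, IsLocalization.mk'_spec_mk, hf]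
  have h4 := (Algebra.FormallyEtale.iff_of_surjective h3).mp h2
  rw [Ideal.isIdempotentElem_iff_eq_bot_or_top_of_isLocalRing] at h4
  have h5 : RingHom.ker (algebraMap CQ BP) = ⊥ := by
    rcases h4 with h | h
    · exact h
    · exfalso
      have : (1 : CQ) ∈ RingHom.ker (algebraMap CQ BP) := by rw [h]; trivial
      rw [RingHom.mem_ker, map_one] at this
      exact one_ne_zero this
  have h6 : algebraMap C CQ x ∈ RingHom.ker (algebraMap CQ BP) := by
    rw [RingHom.mem_ker]
    show f (algebraMap C CQ x) = 0
    rw [hf, hx, map_zero]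
  rw [h5, Ideal.mem_bot, IsLocalization.map_eq_zero_iff Q.primeCompl] at h6
  obtain ⟨u, hu⟩ := h6
  exact ⟨u.1, u.2, hu⟩

variable {A B : Type u} [CommRing A] [CommRing B] [Algebra A B] {ι : Type}

/-- A surjection `A[X] → B` compatible with the augmentations and étale along the zero section is
injective. -/
theorem injective_of_etale [Finite ι] [IsNoetherianRing A] (g : MvPolynomial ι A →ₐ[A] B) (hg : Function.Surjective g)
    (σ : B →ₐ[A] A) (hσ : σ.comp g = aug A ι)
    (hB : letI := g.toRingHom.toAlgebra; ∀ (P : Ideal B) [P.IsPrime], RingHom.ker σ ≤ P →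
      Algebra.IsEtaleAt (MvPolynomial ι A) P) : Function.Injective g := by
  let := g.toRingHom.toAlgebra
  have halg : ∀ c, algebraMap (MvPolynomial ι A) B c = g c := fun c => rfl
  rw [injective_iff_map_eq_zero]
  intro x hx
  apply eq_zero_of_forall_pow
  -- `1 = u + v` with `u x = 0`, `v` in the augmentation ideal
  let J : Ideal (MvPolynomial ι A) :=
    { carrier := {c | c * x = 0}
      add_mem' := fun {a b} ha hb => by
        show (a + b) * x = 0
        rw [add_mul, show a * x = 0 from ha, show b * x = 0 from hb, add_zero]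
      zero_mem' := zero_mul x
      smul_mem' := fun c a ha => by
        show (c * a) * x = 0
        rw [mul_assoc, show a * x = 0 from ha, mul_zero] }
  have htop : J ⊔ RingHom.ker (aug A ι) = ⊤ := by
    by_contra hne
    obtain ⟨Q, hQ, hle⟩ := Ideal.exists_le_maximal _ hne
    have hJQ : J ≤ Q := le_sup_left.trans hle
    have hkQ : RingHom.ker (aug A ι) ≤ Q := le_sup_right.trans hle
    have hkg : RingHom.ker (algebraMap (MvPolynomial ι A) B) ≤ Q := by
      intro c hc
      apply hkQ
      rw [RingHom.mem_ker, ← hσ]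
      show σ (g c) = 0
      rw [← halg c, RingHom.mem_ker.mp hc, map_zero]
    have hprime : (Q.map (algebraMap (MvPolynomial ι A) B)).IsPrime :=
      Ideal.map_isPrime_of_surjective hg hkg
    have hcomap : (Q.map (algebraMap (MvPolynomial ι A) B)).comap (algebraMap (MvPolynomial ι A) B) = Q := by
      have hg' : Function.Surjective (algebraMap (MvPolynomial ι A) B) := hg
      rw [Ideal.comap_map_of_surjective _ hg']
      exact sup_eq_left.mpr (by rw [← RingHom.ker_eq_comap_bot]; exact hkg)
    have hσP : RingHom.ker σ ≤ Q.map (algebraMap (MvPolynomial ι A) B) := by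
      intro b hb
      obtain ⟨c, rfl⟩ := hg b
      refine Ideal.mem_map_of_mem (algebraMap (MvPolynomial ι A) B) (hkQ ?_)
      rw [RingHom.mem_ker, ← hσ]
      exact hb
    have := hB (Q.map (algebraMap (MvPolynomial ι A) B)) hσP
    obtain ⟨u, hu, hux⟩ := exists_ann hg (Q.map (algebraMap (MvPolynomial ι A) B)) x hx
    rw [hcomap] at hu
    exact hu (hJQ hux)
  have h1 : (1 : MvPolynomial ι A) ∈ J ⊔ RingHom.ker (aug A ι) := by rw [htop]; trivial
  obtain ⟨u, hu, v, hv, huv⟩ := Submodule.mem_sup.mp h1
  have hxv : x = v * x := by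
    have h2 : (u + v) * x = x := by rw [huv, one_mul]
    rw [add_mul, show u * x = 0 from hu, zero_add] at h2
    exact h2.symm
  have hxn : ∀ n : ℕ, x = v ^ n * x := by
    intro n
    induction n with
    | zero => simp
    | succ n ih =>
      conv_lhs => rw [ih, hxv]
      ring
  intro n
  rw [hxn n]
  refine Ideal.mul_mem_right _ _ (Ideal.pow_mem_pow ?_ n)
  rw [← ker_aug]
  exact hv

end Etale

end K978.Inj
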